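import Groth.Agent.SGA1t.K284.PthRootUnram
import Groth.Agent.S0519
import Groth.Agent.S1964
import Groth.Agent.S2821
import Mathlib.RingTheory.TotallySplit
import Mathlib.RingTheory.Polynomial.Eisenstein.Basic
import Mathlib.RingTheory.Localization.BaseChange

/-!
# Finite étale covers which extend after adjoining a `p`-th root
-/

set_option autoImplicit false
universe u

open TensorProduct IsLocalRing Polynomial

namespace K284.PthRoot

/-- A finite étale algebra over a strictly henselian local ring splits. -/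
theorem isFiniteSplit (R : Type u) [CommRing R] [HenselianLocalRing R] [IsSepClosed (ResidueField R)]
    (C : Type u) [CommRing C] [Algebra R C] [Module.Finite R C] [Algebra.Etale R C] :
    Algebra.IsFiniteSplit R C := by
  have h1 : Algebra.IsFiniteSplit (ResidueField R) (ResidueField R ⊗[R] C) := inferInstance
  obtain ⟨n, ⟨e⟩⟩ := h1.nonempty_algEquiv_fun
  let e' : ResidueField R ⊗[R] (Fin n → R) ≃ₐ[ResidueField R] (Fin n → ResidueField R) :=
    (Algebra.TensorProduct.piRight R (ResidueField R) (ResidueField R) (fun _ : Fin n ↦ R)).trans <|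
      AlgEquiv.piCongrRight fun i ↦ Algebra.TensorProduct.rid R (ResidueField R) (ResidueField R)
  let E := e.trans e'.symm
  obtain ⟨φ, hφ⟩ := (Groth.Agent.S0519.result R C (Fin n → R)).2 E.toAlgHom
  obtain ⟨ψ, hψ⟩ := (Groth.Agent.S0519.result R (Fin n → R) C).2 E.symm.toAlgHom
  refine ⟨n, ⟨AlgEquiv.ofAlgHom φ ψ ?_ ?_⟩⟩
  · apply (Groth.Agent.S0519.result R (Fin n → R) (Fin n → R)).1
    refine AlgHom.ext fun x => ?_
    have h2 : Algebra.TensorProduct.map (AlgHom.id (ResidueField R) (ResidueField R)) (φ.comp ψ) =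
        (Algebra.TensorProduct.map (AlgHom.id (ResidueField R) (ResidueField R)) φ).comp
          (Algebra.TensorProduct.map (AlgHom.id (ResidueField R) (ResidueField R)) ψ) := by
      ext; rfl
    have h3 := DFunLike.congr_fun hφ (E.symm x)
    have h4 := DFunLike.congr_fun hψ x
    simp only at h3 h4 ⊢
    rw [h2, AlgHom.comp_apply, h4]
    refine h3.trans ?_
    rw [Algebra.TensorProduct.map_id]
    exact E.apply_symm_apply x
  · apply (Groth.Agent.S0519.result R C C).1
    refine AlgHom.ext fun x => ?_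
    have h2 : Algebra.TensorProduct.map (AlgHom.id (ResidueField R) (ResidueField R)) (ψ.comp φ) =
        (Algebra.TensorProduct.map (AlgHom.id (ResidueField R) (ResidueField R)) ψ).comp
          (Algebra.TensorProduct.map (AlgHom.id (ResidueField R) (ResidueField R)) φ) := by
      ext; rfl
    have h3 := DFunLike.congr_fun hψ (E x)
    have h4 := DFunLike.congr_fun hφ x
    simp only at h3 h4 ⊢
    rw [h2, AlgHom.comp_apply, h4]
    refine h3.trans ?_
    rw [Algebra.TensorProduct.map_id]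
    exact E.symm_apply_apply x

/-- The ring `A[t]/(t ^ p - f)` is a domain. -/
theorem isDomain_adjoinRoot {A : Type u} [CommRing A] [IsDomain A] [UniqueFactorizationMonoid A]
    (p : ℕ) (hp : 0 < p) (f : A) (hf : Prime f) : IsDomain (AdjoinRoot (X ^ p - C f : A[X])) := by
  apply AdjoinRoot.isDomain_of_prime
  rw [← UniqueFactorizationMonoid.irreducible_iff_prime]
  have hm : (X ^ p - C f : A[X]).Monic := monic_X_pow_sub_C f hp.ne'
  have hd : (X ^ p - C f : A[X]).natDegree = p := natDegree_X_pow_sub_C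
  have hP : (Ideal.span {f}).IsPrime := (Ideal.span_singleton_prime hf.ne_zero).mpr hf
  refine IsEisensteinAt.irreducible (𝓟 := Ideal.span {f}) ?_ hP hm.isPrimitive (by rw [hd]; exact hp)
  refine ⟨hm.leadingCoeff_notMem hP.ne_top, ?_, ?_⟩
  · intro n hn
    rw [hd] at hn
    rw [coeff_sub, coeff_X_pow, if_neg hn.ne, zero_sub, coeff_C]
    split_ifs
    · exact (Ideal.span {f}).neg_mem (Ideal.mem_span_singleton_self f)
    · simp
  · rw [coeff_sub, coeff_X_pow, if_neg hp.ne, zero_sub, coeff_C_zero, Ideal.neg_mem_iff,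
      Ideal.span_singleton_pow, Ideal.mem_span_singleton]
    intro h
    obtain ⟨c, hc⟩ := h
    have h1 : f * (f * c) = f * 1 := by rw [mul_one]; conv_rhs => rw [hc]
                                        ring
    exact hf.not_isUnit (IsUnit.of_mul_eq_one c (mul_left_cancel₀ hf.ne_zero h1))

/-- `p` stays a nonunit in `A[1/f]`. -/
theorem not_isUnit_away {A D : Type*} [CommRing A] [IsDomain A] (f a : A) (hf : Prime f) (ha : ¬ f ∣ a)
    (ha2 : ¬ IsUnit a) [CommRing D] [Algebra A D] [IsLocalization.Away f D] :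
    ¬ IsUnit (algebraMap A D a) := by
  rw [IsLocalization.Away.algebraMap_isUnit_iff f]
  rintro ⟨n, hn⟩
  obtain ⟨i, hi, h⟩ := (dvd_prime_pow hf n).mp hn
  rcases Nat.eq_zero_or_pos i with rfl | hi'
  · rw [pow_zero] at h
    exact ha2 (associated_one_iff_isUnit.mp h)
  · exact ha ((dvd_pow_self f hi'.ne').trans h.symm.dvd)

/-- descent of splittings: if `A₁` is faithfully flat over `A`, `D` and `B` are `A`-algebras and `A₁ ⊗ B` is
identified with `(A₁ ⊗ D) ^ n` so that the image of `B` lies in `D ^ n`, then `B` is `D ^ n`. -/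
theorem descend {A A₁ D B : Type u} [CommRing A] [CommRing A₁] [CommRing D] [CommRing B]
    [Algebra A A₁] [Algebra A D] [Algebra A B] [Module.FaithfullyFlat A A₁] [Module.Flat A D] (n : ℕ)
    (e : A₁ ⊗[A] B ≃ₐ[A₁] (Fin n → A₁ ⊗[A] D))
    (he : ∀ (b : B) (j : Fin n), e (1 ⊗ₜ b) j ∈ Set.range (fun d : D => (1 : A₁) ⊗ₜ[A] d)) :
    Nonempty (B ≃ₐ[A] (Fin n → D)) := by
  have hinj : Function.Injective (Algebra.TensorProduct.includeRight : D →ₐ[A] A₁ ⊗[A] D) :=
    Algebra.TensorProduct.includeRight_injective (FaithfulSMul.algebraMap_injective A A₁)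
  let ι : (Fin n → D) →ₐ[A] (Fin n → A₁ ⊗[A] D) :=
    AlgHom.pi fun j => (Algebra.TensorProduct.includeRight : D →ₐ[A] A₁ ⊗[A] D).comp (Pi.evalAlgHom A _ j)
  have hι : Function.Injective ι := by
    intro x y h
    funext j
    exact hinj (congrFun h j)
  let F : B →ₐ[A] (Fin n → A₁ ⊗[A] D) :=
    (e.restrictScalars A).toAlgHom.comp Algebra.TensorProduct.includeRight
  have hF : ∀ b, F b ∈ ι.range := by
    intro b
    choose d hd using he b
    exact ⟨d, funext hd⟩
  let Ψ : B →ₐ[A] (Fin n → D) :=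
    (AlgEquiv.ofInjective ι hι).symm.toAlgHom.comp (F.codRestrict ι.range hF)
  have hΨ : ∀ b j, (1 : A₁) ⊗ₜ[A] (Ψ b j) = e (1 ⊗ₜ b) j := by
    intro b j
    have h1 : (AlgEquiv.ofInjective ι hι) (Ψ b) = F.codRestrict ι.range hF b :=
      (AlgEquiv.ofInjective ι hι).apply_symm_apply _
    exact congrFun (congrArg Subtype.val h1) j
  let ρ : A₁ ⊗[A] (Fin n → D) ≃ₐ[A₁] (Fin n → A₁ ⊗[A] D) :=
    Algebra.TensorProduct.piRight A A₁ A₁ (fun _ : Fin n ↦ D)
  have hcomp : ⇑e = ρ ∘ (Ψ.toLinearMap.lTensor A₁) := by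
    funext x
    induction x with
    | zero => simp
    | add x y hx hy => simp only [Function.comp_apply, map_add] at *; rw [hx, hy]
    | tmul a b =>
      funext j
      have h1 : a ⊗ₜ[A] b = a • ((1 : A₁) ⊗ₜ[A] b) := by rw [smul_tmul', smul_eq_mul, mul_one]
      rw [h1, map_smul, Pi.smul_apply, ← hΨ, smul_tmul', smul_eq_mul, mul_one, smul_tmul', smul_eq_mul,
        mul_one]
      rfl
  refine ⟨AlgEquiv.ofBijective Ψ ?_⟩
  have h2 : Function.Bijective (Ψ.toLinearMap.lTensor A₁) := by
    refine (Function.Bijective.of_comp_iff' ρ.bijective _).1 ?_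
    rw [← hcomp]
    exact e.bijective
  exact (Module.FaithfullyFlat.lTensor_bijective_iff_bijective A A₁ Ψ.toLinearMap).1 h2

/-- the splitting of `C₁[1/f]`. -/
theorem exists_split {A₁ L C₁ : Type u} [CommRing A₁] [CommRing L] [CommRing C₁] [Algebra A₁ L] [Algebra A₁ C₁]
    (f : A₁) [IsLocalization.Away f L] (n : ℕ) (ec : C₁ ≃ₐ[A₁] (Fin n → A₁)) :
    Nonempty (Localization.Away (algebraMap A₁ C₁ f) ≃ₐ[A₁] (Fin n → L)) := by
  let e1 : C₁ ⊗[A₁] L ≃ₐ[C₁] Localization.Away (algebraMap A₁ C₁ f) :=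
    IsLocalization.Away.tensorEquiv C₁ f L
  let e2 : C₁ ⊗[A₁] L ≃ₐ[A₁] L ⊗[A₁] (Fin n → A₁) :=
    (Algebra.TensorProduct.congr ec AlgEquiv.refl).trans (Algebra.TensorProduct.comm A₁ _ _)
  let e3 : L ⊗[A₁] (Fin n → A₁) ≃ₐ[L] (Fin n → L) :=
    (Algebra.TensorProduct.piRight A₁ L L (fun _ : Fin n ↦ A₁)).trans <|
      AlgEquiv.piCongrRight fun i ↦ Algebra.TensorProduct.rid A₁ L L
  exact ⟨(e1.restrictScalars A₁).symm.trans (e2.trans (e3.restrictScalars A₁))⟩

theorem main {A : Type u} [CommRing A]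
    [IsRegularLocalRing A] [HenselianLocalRing A] [IsSepClosed (IsLocalRing.ResidueField A)]
    (p : ℕ) [Fact p.Prime] [CharP (IsLocalRing.ResidueField A) p] (f : A)
    (hreg : IsRegularLocalRing (A ⧸ Ideal.span {f})) (hp : (p : A) ∉ Ideal.span {f})
    (B : Type u) [CommRing B] [Algebra A B] [Algebra (Localization.Away f) B]
    [IsScalarTower A (Localization.Away f) B] [Module.Finite (Localization.Away f) B]
    [Algebra.Etale (Localization.Away f) B]
    (h : ∃ (C₁ : Type u) (_ : CommRing C₁) (_ : Algebra (AdjoinRoot (Polynomial.X ^ p - Polynomial.C f)) C₁),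
      Module.Finite (AdjoinRoot (Polynomial.X ^ p - Polynomial.C f)) C₁ ∧
      Algebra.Etale (AdjoinRoot (Polynomial.X ^ p - Polynomial.C f)) C₁ ∧
      Nonempty (Localization.Away (algebraMap (AdjoinRoot (Polynomial.X ^ p - Polynomial.C f)) C₁
          (AdjoinRoot.of (Polynomial.X ^ p - Polynomial.C f) f))
        ≃ₐ[AdjoinRoot (Polynomial.X ^ p - Polynomial.C f)]
          TensorProduct A (AdjoinRoot (Polynomial.X ^ p - Polynomial.C f)) B)) :
    ∃ (n : ℕ), Nonempty (B ≃ₐ[A] (Fin n → Localization.Away f)) := by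
  have hp0 : p.Prime := Fact.out
  by_cases hf0 : f = 0
  · have h1 : Subsingleton (Localization.Away f) := by
      subst hf0
      exact IsLocalization.subsingleton (M := Submonoid.powers (0 : A)) (Submonoid.mem_powers 0)
    have h2 : Subsingleton B := (algebraMap (Localization.Away f) B).codomain_trivial
    refine ⟨0, ⟨?_⟩⟩
    exact AlgEquiv.ofBijective ((AlgHom.pi (fun j : Fin 0 => j.elim0)) : B →ₐ[A] (Fin 0 → Localization.Away f))
      ⟨Function.injective_of_subsingleton _, fun x => ⟨0, Subsingleton.elim _ _⟩⟩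
  obtain ⟨hdom, hufd⟩ := Groth.Agent.S2821.result A
  have hdom' : IsDomain (A ⧸ Ideal.span {f}) := (Groth.Agent.S2821.result (A ⧸ Ideal.span {f})).1
  have hspan : (Ideal.span {f}).IsPrime := (Ideal.Quotient.isDomain_iff_prime _).mp hdom'
  have hf : Prime f := (Ideal.span_singleton_prime hf0).mp hspan
  have hpA : ¬ IsUnit (p : A) := by
    intro hu
    have h1 := hu.map (residue A)
    rw [map_natCast, CharP.cast_eq_zero] at h1
    exact not_isUnit_zero h1
  have hpf : ¬ f ∣ (p : A) := fun h1 => hp (Ideal.mem_span_singleton.mpr h1)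
  obtain ⟨C₁, _, _, hfin, het, ⟨e₀⟩⟩ := h
  have hA1dom : IsDomain (AdjoinRoot (X ^ p - C f : A[X])) := isDomain_adjoinRoot p hp0.pos f hf
  have hm : (X ^ p - C f : A[X]).Monic := monic_X_pow_sub_C f hp0.ne_zero
  have hfin1 : Module.Finite A (AdjoinRoot (X ^ p - C f : A[X])) := hm.finite_adjoinRoot
  have hfree1 : Module.Free A (AdjoinRoot (X ^ p - C f : A[X])) := hm.free_adjoinRoot
  obtain ⟨hhens, hloc, hsep⟩ := Groth.Agent.S1964.result A (AdjoinRoot (X ^ p - C f : A[X]))
  have hsep1 := (hsep inferInstance).1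
  have hsplit := isFiniteSplit (AdjoinRoot (X ^ p - C f : A[X])) C₁
  obtain ⟨n, ⟨ec⟩⟩ := hsplit.nonempty_algEquiv_fun
  refine ⟨n, ?_⟩
  have hloc2 : IsLocalization.Away (AdjoinRoot.of (X ^ p - C f : A[X]) f)
      (AdjoinRoot (X ^ p - C f : A[X]) ⊗[A] Localization.Away f) :=
    IsLocalization.Away.tensor (R := A) (S := AdjoinRoot (X ^ p - C f : A[X])) (r := f)
      (A := Localization.Away f)
  obtain ⟨e1⟩ := exists_split (L := AdjoinRoot (X ^ p - C f : A[X]) ⊗[A] Localization.Away f)
    (AdjoinRoot.of (X ^ p - C f : A[X]) f) n ec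
  have hdomD : IsDomain (Localization.Away f) :=
    IsLocalization.isDomain_localization (powers_le_nonZeroDivisors_of_noZeroDivisors hf0)
  have hnoeD : IsNoetherianRing (Localization.Away f) :=
    IsLocalization.isNoetherianRing (Submonoid.powers f) _ inferInstance
  have hpD : ¬ IsUnit ((p : ℕ) : Localization.Away f) := by
    rw [← map_natCast (algebraMap A (Localization.Away f))]
    exact not_isUnit_away f (p : A) hf hpf hpA
  refine descend n (e₀.symm.trans e1) fun b j => ?_
  let F : B →ₐ[A] AdjoinRoot (X ^ p - C f : A[X]) ⊗[A] Localization.Away f :=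
    (Pi.evalAlgHom A _ j).comp
      (((e₀.symm.trans e1).restrictScalars A).toAlgHom.comp Algebra.TensorProduct.includeRight)
  let F' : B →ₐ[A] Localization.Away f ⊗[A] AdjoinRoot (X ^ p - C f : A[X]) :=
    (Algebra.TensorProduct.comm A _ _).toAlgHom.comp F
  have hr : (AdjoinRoot.root (X ^ p - C f : A[X])) ^ p = algebraMap A _ f := by
    have h1 := AdjoinRoot.eval₂_root (X ^ p - C f : A[X])
    rw [eval₂_sub, eval₂_pow, eval₂_X, eval₂_C, sub_eq_zero] at h1
    exact h1
  have hadj : Algebra.adjoin (Localization.Away f)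
      {(1 : Localization.Away f) ⊗ₜ[A] AdjoinRoot.root (X ^ p - C f : A[X])} = ⊤ := by
    have h1 := Algebra.TensorProduct.adjoin_one_tmul_image_eq_top (A := Localization.Away f)
      {AdjoinRoot.root (X ^ p - C f : A[X])} AdjoinRoot.adjoinRoot_eq_top
    rwa [Set.image_singleton] at h1
  obtain ⟨d, hd⟩ := mem_range_of_unramified p hpD
    ((1 : Localization.Away f) ⊗ₜ[A] AdjoinRoot.root (X ^ p - C f : A[X])) (algebraMap A _ f)
    (by
      rw [Algebra.TensorProduct.tmul_pow, hr, one_pow, Algebra.TensorProduct.algebraMap_apply]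
      simp only [Algebra.algebraMap_self, RingHom.id_apply]
      rw [Algebra.algebraMap_eq_smul_one, tmul_smul, smul_tmul', Algebra.algebraMap_eq_smul_one])
    hadj (F'.extendScalarsOfIsLocalization (Localization.Away f) (Submonoid.powers f)) b
  refine ⟨d, ?_⟩
  have h2 := congrArg (Algebra.TensorProduct.comm A _ _).symm hd
  exact h2.trans ((Algebra.TensorProduct.comm A (AdjoinRoot (X ^ p - C f : A[X])) (Localization.Away f)).symm_apply_apply _)

end K284.PthRoot
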