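import Groth.Agent.Hensel.FiniteEtaleLift
import Mathlib.RingTheory.Unramified.Basic
import Mathlib.FieldTheory.Separable
import Mathlib.Algebra.DualNumber

/-!
# The étaleness criterion for `μ_n`
-/

set_option autoImplicit false

open Polynomial

namespace K284.MuEtale

universe u

theorem one_add_eps_pow {Q : Type u} [CommRing Q] (n : ℕ) (hn : (n : Q) = 0) :
    ((1 : DualNumber Q) + DualNumber.eps) ^ n = 1 := by
  apply TrivSqZeroExt.ext
  · rw [TrivSqZeroExt.fst_pow]
    simp
  · rw [TrivSqZeroExt.snd_pow]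
    simp [hn]

theorem isUnit_of_formallyUnramified (A : Type u) [CommRing A] (n : ℕ)
    [Algebra.FormallyUnramified A (AdjoinRoot ((X : A[X]) ^ n - 1))] : IsUnit ((n : ℕ) : A) := by
  let Q := A ⧸ Ideal.span {(n : A)}
  have hn : (n : Q) = 0 := by
    have : (Ideal.Quotient.mk (Ideal.span {(n : A)}) (n : A)) = 0 :=
      Ideal.Quotient.eq_zero_iff_mem.mpr (Ideal.mem_span_singleton_self _)
    rwa [map_natCast] at this
  let g₁ : AdjoinRoot ((X : A[X]) ^ n - 1) →ₐ[A] DualNumber Q :=
    AdjoinRoot.liftAlgHom _ (Algebra.ofId A (DualNumber Q)) 1 (by simp)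
  let g₂ : AdjoinRoot ((X : A[X]) ^ n - 1) →ₐ[A] DualNumber Q :=
    AdjoinRoot.liftAlgHom _ (Algebra.ofId A (DualNumber Q)) (1 + DualNumber.eps) (by
      simp [one_add_eps_pow n hn])
  let φ : DualNumber Q →+* Q := (TrivSqZeroExt.fstHom Q Q Q).toRingHom
  have hnil : IsNilpotent (RingHom.ker φ) := by
    refine ⟨2, ?_⟩
    have h2 : RingHom.ker φ ^ 2 = RingHom.ker φ * RingHom.ker φ := pow_two _
    rw [h2, Ideal.zero_eq_bot, eq_bot_iff, Ideal.mul_le]
    intro r hr s hs
    have hr' : TrivSqZeroExt.fst r = 0 := hr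
    have hs' : TrivSqZeroExt.fst s = 0 := hs
    rw [Ideal.mem_bot]
    apply TrivSqZeroExt.ext
    · simp [hr', hs']
    · simp [hr', hs']
  have h := Algebra.FormallyUnramified.lift_unique_of_ringHom
    φ hnil g₁ g₂ (by
      apply AdjoinRoot.ringHom_ext
      · ext a
        simp [g₁, g₂]
      · simp [g₁, g₂, φ])
  have h1 : (1 : DualNumber Q) = 1 + DualNumber.eps := by
    have h2 := DFunLike.congr_fun h (AdjoinRoot.root _)
    simpa [g₁, g₂] using h2
  have h3 : (0 : Q) = 1 := by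
    have := congrArg TrivSqZeroExt.snd h1
    simpa using this
  have h4 : (Ideal.Quotient.mk (Ideal.span {(n : A)}) (1 : A)) = 0 := by
    rw [map_one]; exact h3.symm
  rw [Ideal.Quotient.eq_zero_iff_mem, Ideal.mem_span_singleton] at h4
  exact isUnit_of_dvd_one h4

theorem etale_iff (A : Type u) [CommRing A] (n : ℕ) (hn : 1 ≤ n) :
    Algebra.Etale A (AdjoinRoot ((X : A[X]) ^ n - 1)) ↔ IsUnit ((n : ℕ) : A) := by
  refine ⟨fun h => isUnit_of_formallyUnramified A n, fun h => ?_⟩
  refine Groth.Agent.Hensel.FiniteEtaleLift.etale_adjoinRoot _ ?_ ?_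
  · have := monic_X_pow_sub_C (1 : A) (n := n) (by omega)
    rwa [map_one] at this
  · have := separable_X_pow_sub_C_unit (R := A) (n := n) 1 h
    rwa [Units.val_one, map_one] at this

end K284.MuEtale
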