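import Mathlib.Algebra.Polynomial.Laurent
import Mathlib.Algebra.Polynomial.Div
import Mathlib.Algebra.Polynomial.AlgebraMap
import Mathlib.Algebra.BigOperators.Fin

/-!
# Free bases for the `n`-th power map of `A[t,t⁻¹]` and for `t ↦ f(t)` on `A[t]`, `f` monic
-/

set_option autoImplicit false

open scoped LaurentPolynomial
open Polynomial

namespace K284.Free

section Laurent

variable {A : Type*} [CommRing A]

theorem coeff_pow_mul_T (n : ℕ) (hn : 1 ≤ n) (c : A[T;T⁻¹]) (i m : ℤ) :
    ((AddMonoidAlgebra.mapDomainRingHom A (AddMonoidHom.mulLeft (n : ℤ)) : A[T;T⁻¹] →+* A[T;T⁻¹]) c *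
        LaurentPolynomial.T i).coeff (n * m + i) = c.coeff m := by
  rw [LaurentPolynomial.T, AddMonoidAlgebra.coeff_mul_single_apply]
  have hn' : (n : ℤ) ≠ 0 := by exact_mod_cast (by omega : n ≠ 0)
  rw [mul_one, add_neg_cancel_right]
  have hinj : Function.Injective (AddMonoidHom.mulLeft (n : ℤ)) := fun a b h =>
    mul_left_cancel₀ hn' h
  exact Finsupp.mapDomain_apply hinj c.coeff m

theorem coeff_pow_mul_T_of_ne (n : ℕ) (c : A[T;T⁻¹]) (i k : ℤ)
    (h : ∀ m : ℤ, k ≠ n * m + i) :
    ((AddMonoidAlgebra.mapDomainRingHom A (AddMonoidHom.mulLeft (n : ℤ)) : A[T;T⁻¹] →+* A[T;T⁻¹]) c *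
        LaurentPolynomial.T i).coeff k = 0 := by
  rw [LaurentPolynomial.T, AddMonoidAlgebra.coeff_mul_single_apply, mul_one]
  refine Finsupp.mapDomain_of_notMem_range c.coeff _ ?_
  rintro ⟨m, hm⟩
  apply h m
  change (n : ℤ) * m = k + -i at hm
  omega

theorem coeff_sum (n : ℕ) (hn : 1 ≤ n) (c : Fin n → A[T;T⁻¹]) (i : Fin n) (m : ℤ) :
    (∑ i : Fin n, (AddMonoidAlgebra.mapDomainRingHom A (AddMonoidHom.mulLeft (n : ℤ)) :
      A[T;T⁻¹] →+* A[T;T⁻¹]) (c i) * LaurentPolynomial.T (i : ℤ)).coeff (n * m + i) =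
      (c i).coeff m := by
  rw [AddMonoidAlgebra.coeff_sum, Finsupp.finsetSum_apply, Finset.sum_eq_single i]
  · exact coeff_pow_mul_T n hn (c i) i m
  · intro j _ hj
    refine coeff_pow_mul_T_of_ne n (c j) j _ fun k hk => hj ?_
    have h1 : ((n : ℤ) * m + i) % n = (n * k + j) % n := by rw [hk]
    rw [Int.mul_add_emod_self_left, Int.mul_add_emod_self_left,
      Int.emod_eq_of_lt (by omega) (by exact_mod_cast i.2),
      Int.emod_eq_of_lt (by omega) (by exact_mod_cast j.2)] at h1
    exact Fin.ext (by exact_mod_cast h1.symm)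
  · intro h; exact absurd (Finset.mem_univ i) h

theorem laurent_free (n : ℕ) (hn : 1 ≤ n) (q : A[T;T⁻¹]) :
    ∃! c : Fin n → A[T;T⁻¹],
      q = ∑ i : Fin n, (AddMonoidAlgebra.mapDomainRingHom A (AddMonoidHom.mulLeft (n : ℤ)) : A[T;T⁻¹] →+* A[T;T⁻¹]) (c i) *
        LaurentPolynomial.T (i : ℤ) := by
  have hn' : (n : ℤ) ≠ 0 := by exact_mod_cast (by omega : n ≠ 0)
  have hinj : ∀ i : Fin n, Function.Injective (fun k : ℤ => (n : ℤ) * k + i) := fun i a b h =>
    mul_left_cancel₀ hn' (add_right_cancel h)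
  refine ⟨fun i => AddMonoidAlgebra.ofCoeff
    (Finsupp.comapDomain (fun k : ℤ => (n : ℤ) * k + i) q.coeff (hinj i).injOn), ?_, ?_⟩
  · apply AddMonoidAlgebra.coeff_injective
    ext k
    have h1 : k = n * (k / n) + ((⟨(k % n).toNat, by
      have h2 := Int.emod_lt_of_pos k (show (0 : ℤ) < n by omega)
      have h3 := Int.emod_nonneg k hn'
      omega⟩ : Fin n) : ℤ) := by
      have h3 := Int.emod_nonneg k hn'
      have h4 := Int.mul_ediv_add_emod k n
      simp only [Int.toNat_of_nonneg h3]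
      omega
    rw [h1, coeff_sum n hn]
    rfl
  · intro c hc
    funext i
    apply AddMonoidAlgebra.coeff_injective
    ext m
    rw [← coeff_sum n hn c i m, ← hc]
    rfl

end Laurent

section Poly

variable {A : Type*} [CommRing A]

/-- uniqueness -/
theorem eq_zero_of_sum (f : A[X]) (hf : f.Monic) (n : ℕ) (hn : f.natDegree = n) :
    ∀ (N : ℕ) (c : Fin n → A[X]) (_ : ∀ i, (c i).degree < N)
      (_ : ∑ i : Fin n, aeval f (c i) * X ^ (i : ℕ) = 0) (i : Fin n), c i = 0 := by
  nontriviality A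
  have hdeg : ∀ b : Fin n → A, (∑ i : Fin n, C (b i) * X ^ (i : ℕ)).degree < f.degree := by
    intro b
    rw [degree_eq_natDegree hf.ne_zero, hn]
    exact degree_sum_fin_lt b
  intro N
  induction N with
  | zero =>
    intro c hc _ i
    have := hc i
    rw [Nat.cast_zero] at this
    exact degree_eq_bot.mp (Nat.WithBot.lt_zero_iff.mp this)
  | succ N ih =>
    intro c hc hsum i
    have h2 : ∀ i, aeval f (c i) = f * aeval f (divX (c i)) + C ((c i).coeff 0) := by
      intro i
      conv_lhs => rw [← X_mul_divX_add (c i)]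
      rw [map_add, map_mul, aeval_X, aeval_C]
      rfl
    have h3 : f * (∑ i : Fin n, aeval f (divX (c i)) * X ^ (i : ℕ)) +
        ∑ i : Fin n, C ((c i).coeff 0) * X ^ (i : ℕ) = 0 := by
      rw [← hsum, Finset.mul_sum, ← Finset.sum_add_distrib]
      refine Finset.sum_congr rfl fun i _ => ?_
      rw [h2 i]
      ring
    have h4 : (∑ i : Fin n, C ((c i).coeff 0) * X ^ (i : ℕ)) = 0 := by
      have h5 := (div_modByMonic_unique (f := (0 : A[X])) (g := f)
        (∑ i : Fin n, aeval f (divX (c i)) * X ^ (i : ℕ))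
        (∑ i : Fin n, C ((c i).coeff 0) * X ^ (i : ℕ)) hf
        ⟨by rw [add_comm]; exact h3, hdeg _⟩).2
      rw [← h5, zero_modByMonic]
    have h6 : ∀ i, (c i).coeff 0 = 0 := by
      intro i
      have h7 := congrArg (fun p : A[X] => p.coeff i) h4
      simp only [finsetSum_coeff, coeff_C_mul, coeff_X_pow, coeff_zero] at h7
      rw [Finset.sum_eq_single i] at h7
      · simpa using h7
      · intro j _ hj
        rw [if_neg (fun h => hj (Fin.ext h.symm)), mul_zero]
      · intro h; exact absurd (Finset.mem_univ i) h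
    rw [h4, add_zero] at h3
    have h8 : (∑ i : Fin n, aeval f (divX (c i)) * X ^ (i : ℕ)) = 0 :=
      (hf.mul_right_eq_zero_iff).mp h3
    have h9 := ih (fun i => divX (c i)) (fun i => ?_) h8 i
    · rw [← X_mul_divX_add (c i), h9, h6 i]
      simp
    · by_cases h0 : c i = 0
      · rw [h0, divX_zero, degree_zero]
        exact WithBot.bot_lt_coe _
      · have h10 := degree_divX_lt h0
        have h11 := hc i
        by_cases h12 : divX (c i) = 0
        · rw [h12, degree_zero]
          exact WithBot.bot_lt_coe _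
        · rw [degree_eq_natDegree h0] at h10 h11
          rw [degree_eq_natDegree h12] at h10 ⊢
          norm_cast at *
          omega

theorem exists_sum (f : A[X]) (hf : f.Monic) (n : ℕ) (hn : f.natDegree = n) (h1 : 1 ≤ n) :
    ∀ (N : ℕ) (q : A[X]) (_ : q.natDegree < N),
      ∃ c : Fin n → A[X], q = ∑ i : Fin n, aeval f (c i) * X ^ (i : ℕ) := by
  nontriviality A
  intro N
  induction N with
  | zero => intro q hq; exact absurd hq (Nat.not_lt_zero _)
  | succ N ih =>
    intro q hq
    have hr : (q %ₘ f).degree < n := by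
      have := degree_modByMonic_lt q hf
      rwa [degree_eq_natDegree hf.ne_zero, hn] at this
    have hr' : q %ₘ f = ∑ i : Fin n, C ((q %ₘ f).coeff i) * X ^ (i : ℕ) := by
      rw [Fin.sum_univ_eq_sum_range (fun i => C ((q %ₘ f).coeff i) * X ^ i) n]
      refine as_sum_range_C_mul_X_pow' (q %ₘ f) ?_
      by_cases h0 : q %ₘ f = 0
      · rw [h0, natDegree_zero]; omega
      · rw [degree_eq_natDegree h0] at hr
        exact_mod_cast hr
    by_cases hq0 : q.natDegree < n
    · refine ⟨fun i => C (q.coeff i), ?_⟩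
      have h2 : q %ₘ f = q := (modByMonic_eq_self_iff hf).mpr (by
        rw [degree_eq_natDegree hf.ne_zero, hn]
        exact lt_of_le_of_lt degree_le_natDegree (by exact_mod_cast hq0))
      rw [h2] at hr'
      conv_lhs => rw [hr']
      refine Finset.sum_congr rfl fun i _ => ?_
      rw [aeval_C]; rfl
    · have h3 : (q /ₘ f).natDegree < N := by
        rw [natDegree_divByMonic q hf, hn]
        omega
      obtain ⟨c, hc⟩ := ih _ h3
      refine ⟨fun i => X * c i + C ((q %ₘ f).coeff i), ?_⟩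
      conv_lhs => rw [← modByMonic_add_div q f, hr', hc]
      rw [Finset.mul_sum, ← Finset.sum_add_distrib]
      refine Finset.sum_congr rfl fun i _ => ?_
      rw [map_add, map_mul, aeval_X, aeval_C]
      change _ = (f * _ + C _) * _
      ring

theorem poly_free (f : A[X]) (hf : f.Monic) (n : ℕ) (hn : f.natDegree = n) (h1 : 1 ≤ n) (q : A[X]) :
    ∃! c : Fin n → A[X], q = ∑ i : Fin n, aeval f (c i) * X ^ (i : ℕ) := by
  obtain ⟨c, hc⟩ := exists_sum f hf n hn h1 (q.natDegree + 1) q (Nat.lt_succ_self _)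
  refine ⟨c, hc, fun c' hc' => ?_⟩
  have hb : ∃ N : ℕ, ∀ i, (c' i - c i).degree < N := by
    refine ⟨(Finset.univ.sup fun i => (c' i - c i).natDegree) + 1, fun i => ?_⟩
    refine lt_of_le_of_lt degree_le_natDegree ?_
    have : (c' i - c i).natDegree ≤ Finset.univ.sup fun i => (c' i - c i).natDegree :=
      Finset.le_sup (f := fun i => (c' i - c i).natDegree) (Finset.mem_univ i)
    exact_mod_cast Nat.lt_succ_of_le this
  obtain ⟨N, hN⟩ := hb
  funext i
  refine sub_eq_zero.mp (eq_zero_of_sum f hf n hn N (fun i => c' i - c i) hN ?_ i)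
  have : (∑ i : Fin n, aeval f (c' i - c i) * X ^ (i : ℕ)) =
      (∑ i : Fin n, aeval f (c' i) * X ^ (i : ℕ)) - ∑ i : Fin n, aeval f (c i) * X ^ (i : ℕ) := by
    rw [← Finset.sum_sub_distrib]
    refine Finset.sum_congr rfl fun i _ => ?_
    rw [map_sub]; ring
  rw [this, ← hc, ← hc', sub_self]

/-- same for `-f` with `f` monic -/
theorem poly_free_neg (f : A[X]) (hf : f.Monic) (n : ℕ) (hn : f.natDegree = n) (h1 : 1 ≤ n)
    (q : A[X]) :
    ∃! c : Fin n → A[X], q = ∑ i : Fin n, aeval (-f) (c i) * X ^ (i : ℕ) := by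
  have key : ∀ p : A[X], aeval (-f) p = aeval f (aeval (-X : A[X]) p) := by
    intro p
    rw [← aeval_algHom_apply, map_neg, aeval_X]
  have hinv : ∀ p : A[X], aeval (-X : A[X]) (aeval (-X : A[X]) p) = p := by
    intro p
    rw [← aeval_algHom_apply, map_neg, aeval_X, neg_neg, aeval_X_left_apply]
  obtain ⟨c, hc, huniq⟩ := poly_free f hf n hn h1 q
  refine ⟨fun i => aeval (-X : A[X]) (c i), ?_, ?_⟩
  · simp only [key, hinv]
    exact hc
  · intro c' hc'
    simp only [key] at hc'
    have := huniq (fun i => aeval (-X : A[X]) (c' i)) hc'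
    funext i
    rw [← this, hinv]

end Poly

end K284.Free
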