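import Groth.Agent.SGA1t.K284.Exact
import Groth.Agent.Sga3.H827.DSFlat
import Groth.Agent.Sga3B.PinTransport
import Mathlib.Data.ZMod.Basic
import Mathlib.Data.ZMod.QuotientGroup

/-!
# The Kummer sequence is exact for the fpqc topology
-/

set_option autoImplicit false
universe u
open CategoryTheory MonoidalCategory CartesianMonoidalCategory MonObj GrpObj AlgebraicGeometry Limits

namespace K284.Kummer

open Groth.Agent.Sga3B Groth.Agent.Sga3B.DSPts Groth.Agent.Sga3.H827

variable {S : Scheme.{u}}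

/-- Characters of `ℤ` killed by `n` factor through `ZMod n`. -/
theorem exists_factor {E : Type*} [CommMonoid E] (n : ℕ) (χ : Multiplicative ℤ →* E)
    (h : χ (Multiplicative.ofAdd (n : ℤ)) = 1) :
    ∃ ψ : Multiplicative (ZMod n) →* E,
      ψ.comp (AddMonoidHom.toMultiplicative (Int.castAddHom (ZMod n))) = χ := by
  let χ' : Multiplicative ℤ →* Eˣ := χ.toHomUnits
  have h' : (MonoidHom.toAdditiveRight χ') (n : ℤ) = 0 := by
    apply Additive.toMul.injective
    apply Units.ext
    exact h
  let ψ' : ZMod n →+ Additive Eˣ := ZMod.lift n ⟨MonoidHom.toAdditiveRight χ', h'⟩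
  refine ⟨(Units.coeHom E).comp (AddMonoidHom.toMultiplicativeLeft ψ'), ?_⟩
  ext
  simp only [MonoidHom.comp_apply, Units.coeHom_apply]
  change ((Additive.toMul (ψ' ((1 : ℤ) : ZMod n)) : Eˣ) : E) = χ (Multiplicative.ofAdd 1)
  rw [ZMod.lift_coe]
  rfl

theorem main (n : ℕ) (hn : 0 < n) :
    NonAbH1.IsExactSeq Scheme.fpqcPrecoverage
      (Red.DSmap S (Int.castAddHom (ZMod n))) (Red.chi S (n : ℤ)) := by
  have hinj : Function.Injective (zmultiplesHom ℤ (n : ℤ) : ℤ →+ ℤ) := by
    intro a b h
    have h' : a • (n : ℤ) = b • (n : ℤ) := h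
    simp only [smul_eq_mul] at h'
    exact mul_right_cancel₀ (by exact_mod_cast hn.ne') h'
  have hu : IsMonHom (Red.DSmap S (Int.castAddHom (ZMod n))) := inferInstance
  have hv : IsMonHom (Red.chi S (n : ℤ)) := PinTransport.isMonHom_DSmap _
  have h1 : Red.DSmap S (Int.castAddHom (ZMod n)) ≫ Red.chi S (n : ℤ) = 1 := by
    rw [PinTransport.DSmap_chi]
    have : (Int.castAddHom (ZMod n)) (n : ℤ) = 0 := by simp
    rw [this]
    apply PinTransport.hom_ext_DS
    intro T x
    apply (dsEquiv T ℤ).symm.injective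
    rw [comp_one, map_one]
    change dsChar (x ≫ Red.DSmap S (zmultiplesHom (ZMod n) (0 : ZMod n))) = 1
    rw [dsChar_DSmap]
    ext
    simp
  have hm : Mono (Red.DSmap S (Int.castAddHom (ZMod n))) := by
    constructor
    intro T x y hxy
    apply (dsEquiv T (ZMod n)).symm.injective
    change dsChar x = dsChar y
    have h3 := congrArg dsChar hxy
    rw [dsChar_DSmap, dsChar_DSmap] at h3
    refine MonoidHom.ext fun z => ?_
    obtain ⟨a, ha⟩ := ZMod.intCast_surjective (n := n) z.toAdd
    have h4 := DFunLike.congr_fun h3 (Multiplicative.ofAdd a)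
    have h5 : (AddMonoidHom.toMultiplicative (Int.castAddHom (ZMod n))) (Multiplicative.ofAdd a) = z := by
      apply Multiplicative.toAdd.injective
      exact ha
    simp only [MonoidHom.comp_apply, h5] at h4
    exact h4
  have hfl : Flat (Red.chi S (n : ℤ)).left := DSFlat.flat_DSmap _ S hinj
  have hsu : Surjective (Red.chi S (n : ℤ)).left := DSFlat.surjective_DSmap _ S hinj
  have haf : IsAffineHom (Red.chi S (n : ℤ)).left := DSFlat.isAffineHom_DSmap _ S
  refine Exact.isExactSeq _ _ h1 ?_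
  intro T x hx
  have h6 : dsChar x (Multiplicative.ofAdd (n : ℤ)) = 1 := by
    have h7 := congrArg (dsChar (M := ℤ)) hx
    have h8 : dsChar (x ≫ Red.DSmap S (zmultiplesHom ℤ (n : ℤ))) = 1 := by
      refine h7.trans ?_
      exact map_one (dsEquiv T ℤ).symm
    rw [dsChar_DSmap] at h8
    have h9 := DFunLike.congr_fun h8 (Multiplicative.ofAdd (1 : ℤ))
    have h10 : (AddMonoidHom.toMultiplicative (zmultiplesHom ℤ (n : ℤ)))
        (Multiplicative.ofAdd (1 : ℤ)) = Multiplicative.ofAdd (n : ℤ) := by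
      apply Multiplicative.toAdd.injective
      change (1 : ℤ) • (n : ℤ) = n
      simp
    simp only [MonoidHom.comp_apply, h10] at h9
    exact h9
  obtain ⟨ψ, hψ⟩ := exists_factor n (dsChar x) h6
  refine ⟨dsEquiv T (ZMod n) ψ, ?_⟩
  rw [dsEquiv_DSmap, hψ, dsEquiv_dsChar]

end K284.Kummer
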