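import Groth.Prelude.Def_NonAbH2
import Mathlib.AlgebraicGeometry.Sites.Fpqc

/-!
# Exactness of a sequence of group schemes from points
-/

set_option autoImplicit false
universe u
open CategoryTheory MonoidalCategory CartesianMonoidalCategory MonObj GrpObj AlgebraicGeometry Limits

namespace K284.Exact

variable {S : Scheme.{u}} {G' G G'' : Over S} [GrpObj G'] [GrpObj G] [GrpObj G'']

theorem whisker_mul (u : G' ⟶ G) : (G ◁ u) ≫ μ[G] = fst G G' * (snd G G' ≫ u) := by
  rw [Hom.mul_def]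
  congr 1

/-- exactness from points -/
theorem isExactSeq (u : G' ⟶ G) (v : G ⟶ G'') [hu : IsMonHom u] [hv : IsMonHom v]
    (h1 : u ≫ v = 1) (h2 : ∀ (T : Over S) (x : T ⟶ G), x ≫ v = 1 → ∃ z : T ⟶ G', z ≫ u = x)
    [hm : Mono u] [Flat v.left] [Surjective v.left] [QuasiCompact v.left] :
    NonAbH1.IsExactSeq Scheme.fpqcPrecoverage u v := by
  have hmulv : ∀ {T : Over S} (x y : T ⟶ G), (x * y) ≫ v = (x ≫ v) * (y ≫ v) := fun x y =>
    MonObj.mul_comp x y v
  have hinvv : ∀ {T : Over S} (x : T ⟶ G), (x⁻¹) ≫ v = (x ≫ v)⁻¹ := fun x =>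
    GrpObj.inv_comp x v
  refine ⟨hu, hv, h1, ?_, ?_⟩
  · rw [whisker_mul]
    refine IsPullback.of_isLimit' ⟨?_⟩ ?_
    · rw [hmulv, Category.assoc, h1, comp_one, _root_.mul_one]
    · have hz : ∀ s : PullbackCone v v, ∃ z : s.pt ⟶ G', z ≫ u = s.fst⁻¹ * s.snd := fun s =>
        h2 s.pt (s.fst⁻¹ * s.snd) (by rw [hmulv, hinvv, s.condition, inv_mul_cancel])
      refine PullbackCone.IsLimit.mk _ (fun s => lift s.fst (hz s).choose) ?_ ?_ ?_
      · intro s
        simp
      · intro s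
        rw [comp_mul, lift_fst, lift_snd_assoc]
        rw [(hz s).choose_spec, mul_inv_cancel_left]
      · intro s m hm1 hm2
        rw [comp_mul, ← Category.assoc] at hm2
        refine CartesianMonoidalCategory.hom_ext _ _ (by simpa using hm1) ?_
        rw [lift_snd, ← cancel_mono u, (hz s).choose_spec, ← hm2, hm1,
          inv_mul_cancel_left]
  · refine ⟨Presieve.singleton v.left, Scheme.Hom.singleton_mem_fpqcPrecoverage v.left, ?_⟩
    rintro S' f ⟨⟩
    exact ⟨𝟙 _, Category.id_comp _⟩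

end K284.Exact
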