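import Groth.Prelude.Def_TwC
import Groth.Agent.SGA1t.K284.Exact
import Groth.Agent.SGA1t.K284.Free
import Groth.Agent.Sga3B.GaPts
import Groth.Agent.Sga3B.Pts
import Mathlib.AlgebraicGeometry.Morphisms.FlatDescent
import Mathlib.AlgebraicGeometry.Morphisms.Affine
import Mathlib.FieldTheory.Finite.Basic

/-!
# The Artin–Schreier sequence is exact for the fpqc topology
-/

set_option autoImplicit false
universe v u
open CategoryTheory MonoidalCategory CartesianMonoidalCategory MonObj GrpObj AlgebraicGeometry Limits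

namespace K284.ArtinSchreier

section Poly
open Polynomial

/-- a ring map making the target free of positive rank is faithfully flat. -/
theorem ff_of_unique {R B : Type*} [CommRing R] [CommRing B] [Nontrivial B] (φ : R →+* B) (n : ℕ)
    (b : Fin n → B) (h : ∀ q : B, ∃! c : Fin n → R, q = ∑ i, φ (c i) * b i) :
    φ.FaithfullyFlat := by
  letI := φ.toAlgebra
  have hL : Function.Bijective (Fintype.linearCombination R b) := by
    rw [Function.bijective_iff_existsUnique]
    intro q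
    obtain ⟨c, hc, hu⟩ := h q
    refine ⟨c, ?_, fun c' hc' => hu c' ?_⟩
    · refine (Fintype.linearCombination_apply R b c).trans ?_
      exact hc.symm
    · exact ((Fintype.linearCombination_apply R b c').symm.trans hc').symm
  have := Module.Free.of_equiv (LinearEquiv.ofBijective _ hL)
  exact inferInstanceAs (Module.FaithfullyFlat R B)

theorem ff_aeval_neg {A : Type*} [CommRing A] [Nontrivial A] (f : A[X]) (hf : f.Monic)
    (h1 : 1 ≤ f.natDegree) :
    (aeval (-f) : A[X] →ₐ[A] A[X]).toRingHom.FaithfullyFlat :=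
  ff_of_unique _ f.natDegree (fun i => X ^ (i : ℕ)) (Free.poly_free_neg f hf _ rfl h1)

end Poly

section Sym

open Groth.Agent.Sga3B Groth.Agent.Sga3B.GaPts Polynomial

/-- `SymZ` is a polynomial ring. -/
noncomputable def symEquiv : SymZ.{u} ≃+* (ULift.{u} ℤ)[X] :=
  RingEquiv.ofRingHom (gaHom X) (aeval gen : (ULift.{u} ℤ)[X] →ₐ[ULift.{u} ℤ] SymZ.{u}).toRingHom
    (by
      refine Polynomial.ringHom_ext (fun x => ?_) ?_
      · simp only [RingHom.comp_apply]
        have h1 : (aeval gen : (ULift.{u} ℤ)[X] →ₐ[ULift.{u} ℤ] SymZ.{u}).toRingHom (C x) =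
            algebraMap _ _ x := aeval_C _ _
        rw [h1]
        exact RingHom.congr_fun (DSPts.uliftInt_ringHom_ext
          ((gaHom X).comp (algebraMap (ULift.{u} ℤ) SymZ.{u})) C) x
      · simp)
    (by
      apply GaPts.ringHom_ext
      simp)

/-- the endomorphism `x ↦ x - x ^ p` of `ℤ[x]`. -/
noncomputable def asHom (p : ℕ) : SymZ.{u} →+* SymZ.{u} := gaHom (gen - gen ^ p)

theorem ff_asHom (p : ℕ) (hp : 2 ≤ p) : (asHom.{u} p).FaithfullyFlat := by
  have hm : ((X : (ULift.{u} ℤ)[X]) ^ p - X).Monic :=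
    monic_X_pow_sub (by rw [degree_X]; exact_mod_cast hp)
  have hd : ((X : (ULift.{u} ℤ)[X]) ^ p - X).natDegree = p := by
    rw [natDegree_sub_eq_left_of_natDegree_lt, natDegree_X_pow]
    rw [natDegree_X_pow, natDegree_X]; omega
  have h1 := ff_aeval_neg ((X : (ULift.{u} ℤ)[X]) ^ p - X) hm (by omega)
  have h2 : asHom.{u} p = (symEquiv.{u}.symm : (ULift.{u} ℤ)[X] →+* SymZ.{u}).comp
      ((aeval (-((X : (ULift.{u} ℤ)[X]) ^ p - X)) : (ULift.{u} ℤ)[X] →ₐ[ULift.{u} ℤ] _).toRingHom.comp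
        (symEquiv.{u} : SymZ.{u} →+* (ULift.{u} ℤ)[X])) := by
    apply GaPts.ringHom_ext
    simp [asHom, symEquiv]
  rw [h2]
  exact RingHom.FaithfullyFlat.stableUnderComposition _ _
    (RingHom.FaithfullyFlat.stableUnderComposition _ _ (.of_bijective symEquiv.bijective) h1)
    (.of_bijective symEquiv.symm.bijective)

end Sym

section Main

open Groth.Agent.Sga3B.GaPts

variable {S : Scheme.{u}} (v : Red.Ga S ⟶ Red.Ga S) (p : ℕ)

theorem isPullback_left (hv : Red.gaFn v = Red.gaFn (𝟙 (Red.Ga S)) - Red.gaFn (𝟙 (Red.Ga S)) ^ p) :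
    IsPullback v.left (pullback.fst _ _) (pullback.fst _ _) (Spec.map (CommRingCat.ofHom (asHom.{u} p))) := by
  have h5 : Spec.map (CommRingCat.ofHom (gaHom (Red.gaFn v))) =
      Spec.map (CommRingCat.ofHom (gaHom (Red.gaFn (𝟙 (Red.Ga S))))) ≫
        Spec.map (CommRingCat.ofHom (asHom.{u} p)) := by
    rw [← Spec.map_comp, ← CommRingCat.ofHom_comp, asHom, comp_gaHom, hv]
    simp
  have h1 : v.left ≫ pullback.fst (Red.GaZ.{u}).hom (Limits.IsTerminal.from specULiftZIsTerminal S) =
      pullback.fst (Red.GaZ.{u}).hom (Limits.IsTerminal.from specULiftZIsTerminal S) ≫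
        Spec.map (CommRingCat.ofHom (asHom.{u} p)) := by
    have h2 := gaPt_fst (Red.Ga S) (Red.gaFn v)
    rw [gaPt_gaFn] at h2
    have h3 := gaPt_fst (Red.Ga S) (Red.gaFn (𝟙 (Red.Ga S)))
    rw [gaPt_gaFn, Over.id_left, Category.id_comp] at h3
    refine h2.trans (Eq.trans ?_ (congrArg (· ≫ Spec.map (CommRingCat.ofHom (asHom.{u} p))) h3.symm))
    exact (congrArg (fun t => (Red.Ga S).left.toSpecΓ ≫ t) h5).trans (Category.assoc _ _ _).symm
  have h4 : IsPullback (pullback.fst (Red.GaZ.{u}).hom (Limits.IsTerminal.from specULiftZIsTerminal S))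
    (pullback.snd (Red.GaZ.{u}).hom (Limits.IsTerminal.from specULiftZIsTerminal S)) _ _ :=
      IsPullback.of_hasPullback _ _
  refine IsPullback.of_right ?_ h1 h4.flip
  have h6 : v.left ≫ pullback.snd (Red.GaZ.{u}).hom (Limits.IsTerminal.from specULiftZIsTerminal S) =
      pullback.snd (Red.GaZ.{u}).hom (Limits.IsTerminal.from specULiftZIsTerminal S) := Over.w v
  exact h4.flip.of_iso (Iso.refl _) (Iso.refl _) (Iso.refl _) (Iso.refl _) (by simpa using h6.symm)
    (by simp) (by simp) (specULiftZIsTerminal.hom_ext _ _)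

theorem left_props (hv : Red.gaFn v = Red.gaFn (𝟙 (Red.Ga S)) - Red.gaFn (𝟙 (Red.Ga S)) ^ p)
    (hp : 2 ≤ p) : Flat v.left ∧ Surjective v.left ∧ IsAffineHom v.left := by
  have h := isPullback_left v p hv
  have h1 := (flat_and_surjective_SpecMap_iff (CommRingCat.ofHom (asHom.{u} p))).mpr (ff_asHom p hp)
  exact ⟨MorphismProperty.of_isPullback h.flip h1.1, MorphismProperty.of_isPullback h.flip h1.2,
    MorphismProperty.of_isPullback (P := @IsAffineHom) h.flip
      (inferInstanceAs (IsAffineHom (Spec.map (CommRingCat.ofHom (asHom.{u} p)))))⟩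

section Const

variable {M : Type v} [Group M] [Small.{u} M] {G : Over S} [GrpObj G] (eG : G ≅ TwC.const S M)

/-- the constant point of index `z`. -/
noncomputable def cpt (z : M) : 𝟙_ (Over S) ⟶ G := TwC.pt S M z ≫ eG.inv

variable {eG}

omit [Group M] [GrpObj G] in
theorem cpt_left_hom (z : M) : (cpt eG z).left ≫ eG.hom.left = Sigma.ι (fun _ : M => S) z := by
  rw [← Over.comp_left, cpt, Category.assoc, Iso.inv_hom_id, Category.comp_id]
  rfl

theorem cpt_mul (hG : TwC.IsConstGrp M G eG) (z w : M) : cpt eG (z * w) = cpt eG z * cpt eG w :=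
  (hG z w).symm

theorem cpt_one (hG : TwC.IsConstGrp M G eG) : cpt eG (1 : M) = 1 := by
  have h := cpt_mul hG 1 1
  rw [_root_.mul_one] at h
  exact mul_eq_left.1 h.symm

omit [Group M] [GrpObj G] in
/-- a point of a constant scheme is locally constant. -/
theorem const_dec {T : Over S} (g : T ⟶ G) :
    ∃ V : M → T.left.Opens, (∀ t : T.left, ∃! z, t ∈ V z) ∧
      ∀ z, (V z).ι ≫ g.left = (V z).ι ≫ (toUnit T ≫ cpt eG z).left := by
  let φ : T.left ⟶ ∐ (fun _ : M => S) := g.left ≫ eG.hom.left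
  let V : M → T.left.Opens := fun z => φ ⁻¹ᵁ (Sigma.ι (fun _ : M => S) z).opensRange
  refine ⟨V, fun t => ?_, fun z => ?_⟩
  · obtain ⟨z, y, hy⟩ := (sigmaOpenCover (fun _ : M => S)).exists_eq (φ t)
    refine ⟨z, ⟨y, hy⟩, ?_⟩
    rintro w ⟨y', hy'⟩
    have h1 : Sigma.ι (fun _ : M => S) w y' = Sigma.ι (fun _ : M => S) z y := hy'.trans hy.symm
    rw [sigmaι_eq_iff] at h1
    exact congrArg Sigma.fst h1
  · have hr : Set.range ((V z).ι ≫ φ) ⊆ Set.range (Sigma.ι (fun _ : M => S) z) := by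
      rintro _ ⟨t, rfl⟩
      exact t.2
    let l : (V z).toScheme ⟶ S := IsOpenImmersion.lift (Sigma.ι (fun _ : M => S) z) ((V z).ι ≫ φ) hr
    have hl : l ≫ Sigma.ι (fun _ : M => S) z = (V z).ι ≫ φ := IsOpenImmersion.lift_fac _ _ _
    have hl2 : l = (V z).ι ≫ T.hom := by
      have h1 : (l ≫ Sigma.ι (fun _ : M => S) z) ≫ Sigma.desc (fun _ : M => 𝟙 S) = l := by simp
      rw [← h1, hl]
      have h2 : eG.hom.left ≫ Sigma.desc (fun _ : M => 𝟙 S) = G.hom := Over.w eG.hom
      rw [Category.assoc, Category.assoc, h2, Over.w]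
    have : IsIso eG.hom.left := inferInstanceAs (IsIso ((Over.forget S).map eG.hom))
    rw [← cancel_mono eG.hom.left, Category.assoc, Category.assoc, Over.comp_left, Over.toUnit_left,
      Category.assoc, cpt_left_hom, ← Category.assoc (V z).ι T.hom, ← hl2, hl]

omit [Group M] [GrpObj G] in
theorem hom_ext_const {X : Over S} {a b : G ⟶ X} (h : ∀ z, cpt eG z ≫ a = cpt eG z ≫ b) : a = b := by
  rw [← cancel_epi eG.inv]
  apply Over.OverMorphism.ext
  refine Sigma.hom_ext _ _ fun z => ?_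
  have h1 := congrArg (fun t => t.left) (h z)
  simpa [cpt, TwC.pt] using h1

end Const

section Lift

variable {M : Type v}

/-- gluing along a clopen partition. -/
theorem glue {T : Scheme.{u}} {X : Scheme.{u}} (V : M → T.Opens) (hV : ∀ t : T, ∃! z, t ∈ V z)
    (f : ∀ z, (V z : Scheme.{u}) ⟶ X) : ∃ g : T ⟶ X, ∀ z, (V z).ι ≫ g = f z := by
  have hc : TopologicalSpace.IsOpenCover V := by
    rw [TopologicalSpace.IsOpenCover, eq_top_iff]
    intro t _
    obtain ⟨z, hz, -⟩ := hV t
    exact TopologicalSpace.Opens.mem_iSup.mpr ⟨z, hz⟩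
  let 𝒰 := T.openCoverOfIsOpenCover V hc
  have hf : ∀ x y : M, pullback.fst (V x).ι (V y).ι ≫ f x = pullback.snd (V x).ι (V y).ι ≫ f y := by
    intro x y
    by_cases hxy : x = y
    · subst hxy
      rw [fst_eq_snd_of_mono_eq]
    · have : IsEmpty (pullback (V x).ι (V y).ι : Scheme.{u}) := by
        refine ⟨fun t => hxy ?_⟩
        have h1 : (pullback.fst (V x).ι (V y).ι ≫ (V x).ι) t ∈ V x :=
          (pullback.fst (V x).ι (V y).ι t).2
        have h2 : (pullback.snd (V x).ι (V y).ι ≫ (V y).ι) t ∈ V y :=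
          (pullback.snd (V x).ι (V y).ι t).2
        rw [← pullback.condition] at h2
        exact (hV _).unique h1 h2
      exact isInitialOfIsEmpty.hom_ext _ _
  refine ⟨𝒰.glueMorphisms f hf, fun z => ?_⟩
  exact 𝒰.ι_glueMorphisms f hf z

/-- the restriction of `u` to its basic open is a unit. -/
theorem isUnit_appTop {T : Scheme.{u}} (u : Γ(T, ⊤)) : IsUnit ((T.basicOpen u).ι.appTop u) := by
  have h1 := RingedSpace.isUnit_res_basicOpen T.toSheafedSpace (U := ⊤) u
  have h2 : (T.basicOpen u).ι.appTop u = T.presheaf.map (homOfLE (show (T.basicOpen u).ι ''ᵁ ⊤ ≤ T.basicOpen u by simp)).op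
    (T.presheaf.map (homOfLE (T.basicOpen_le u)).op u) := by
    rw [← CommRingCat.comp_apply, ← Functor.map_comp, Scheme.Opens.ι_appTop]
    rfl
  rw [h2]
  exact h1.map _

end Lift

section Ring

variable {R : Type*} [CommRing R] {p : ℕ} [Fact p.Prime]

/-- the structure map of a ring killed by `p`. -/
noncomputable def cst (hp : (p : R) = 0) : ZMod p →+* R :=
  haveI := ringChar.charP R
  ZMod.castHom (ringChar.dvd hp) R

theorem cst_natCast (hp : (p : R) = 0) (n : ℕ) : cst hp (n : ZMod p) = n := map_natCast _ _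

theorem cst_pow (hp : (p : R) = 0) (z : ZMod p) : (cst hp z) ^ p = cst hp z := by
  rw [← map_pow, ZMod.pow_card]

theorem map_cst {R' : Type*} [CommRing R'] (hp : (p : R) = 0) (hp' : (p : R') = 0) (f : R →+* R') (z : ZMod p) :
    f (cst hp z) = cst hp' z := by
  have : (f.comp (cst hp)) = cst hp' := RingHom.ext_zmod _ _
  exact RingHom.congr_fun this z

theorem prod_cst (hp : (p : R) = 0) (a : R) : ∏ k : ZMod p, (a - cst hp k) = a ^ p - a := by
  have h1 : (Polynomial.X ^ p - Polynomial.X : Polynomial (ZMod p)).natDegree = p :=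
    FiniteField.X_pow_card_sub_X_natDegree_eq _ (Fact.out : p.Prime).one_lt
  have h2 : (Polynomial.X ^ p - Polynomial.X : Polynomial (ZMod p)).roots = Finset.univ.val := by
    have := FiniteField.roots_X_pow_card_sub_X (ZMod p)
    rwa [ZMod.card] at this
  have h3 : (Polynomial.X ^ p - Polynomial.X : Polynomial (ZMod p)).Monic :=
    Polynomial.monic_X_pow_sub (by rw [Polynomial.degree_X]; exact_mod_cast (Fact.out : p.Prime).one_lt)
  have h4 := Polynomial.prod_multiset_X_sub_C_of_monic_of_roots_card_eq h3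
    (by rw [h2, h1]; exact (Finset.card_univ (α := ZMod p)).trans (ZMod.card p))
  rw [h2] at h4
  have h5 := congrArg (Polynomial.eval₂ (cst hp) a) h4
  rw [Polynomial.eval₂_sub, Polynomial.eval₂_pow, Polynomial.eval₂_X] at h5
  rw [← h5]
  change _ = Polynomial.eval₂ (cst hp) a (∏ k : ZMod p, (Polynomial.X - Polynomial.C k))
  rw [Polynomial.eval₂_finsetProd]
  simp

theorem add_pow_p (hp : (p : R) = 0) (a b : R) : (a + b) ^ p = a ^ p + b ^ p := by
  obtain ⟨r, hr⟩ := exists_add_pow_prime_eq (Fact.out : p.Prime) a b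
  rw [hr, hp]
  ring

end Ring

/-- over a ring of characteristic `p`, solutions of `a ^ p = a` are locally constant. -/
theorem exists_partition {T : Scheme.{u}} {p : ℕ} [Fact p.Prime] (hp : (p : Γ(T, ⊤)) = 0) (a : Γ(T, ⊤))
    (ha : a ^ p = a) :
    ∃ V : ZMod p → T.Opens, (∀ t : T, ∃! z, t ∈ V z) ∧ ∀ z, (V z).ι.appTop a = (V z).ι.appTop (cst hp z) := by
  classical
  have h0 : ∏ k : ZMod p, (a - cst hp k) = 0 := by rw [prod_cst, ha, sub_self]
  let u : ZMod p → Γ(T, ⊤) := fun m => ∏ k ∈ Finset.univ.erase m, (a - cst hp k)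
  have hu : ∀ m, (a - cst hp m) * u m = 0 := fun m =>
    (Finset.mul_prod_erase Finset.univ (fun k => a - cst hp k) (Finset.mem_univ m)).trans h0
  refine ⟨fun m => T.basicOpen (u m), fun t => ?_, fun m => ?_⟩
  · let ev : Γ(T, ⊤) →+* T.residueField t := (T.evaluation ⊤ t trivial).hom
    have hp' : (p : T.residueField t) = 0 := by rw [← map_natCast ev p, hp, map_zero]
    have hmem : ∀ m, t ∈ T.basicOpen (u m) ↔ ev a = cst hp' m := by
      intro m
      have h1 : t ∈ T.basicOpen (u m) ↔ ev (u m) ≠ 0 := by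
        have := T.evaluation_eq_zero_iff_notMem_basicOpen t (U := ⊤) trivial (u m)
        exact ((not_congr this).trans not_not).symm
      rw [h1]
      have h2 : ev (u m) = ∏ k ∈ Finset.univ.erase m, (ev a - cst hp' k) := by
        rw [map_prod]
        refine Finset.prod_congr rfl fun k _ => ?_
        rw [map_sub, map_cst hp hp']
      rw [h2, Finset.prod_ne_zero_iff]
      constructor
      · intro h3
        have h4 : ∏ k : ZMod p, (ev a - cst hp' k) = 0 := by
          rw [prod_cst, ← map_pow, ha, sub_self]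
        rw [Finset.prod_eq_zero_iff] at h4
        obtain ⟨k, -, hk⟩ := h4
        by_cases hkm : k = m
        · rw [hkm] at hk
          exact sub_eq_zero.mp hk
        · exact absurd hk (h3 k (Finset.mem_erase.mpr ⟨hkm, Finset.mem_univ _⟩))
      · intro h3 k hk h4
        rw [h3, sub_eq_zero] at h4
        exact (Finset.mem_erase.mp hk).1 ((cst hp').injective h4).symm
    have h4 : ∏ k : ZMod p, (ev a - cst hp' k) = 0 := by
      rw [prod_cst, ← map_pow, ha, sub_self]
    rw [Finset.prod_eq_zero_iff] at h4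
    obtain ⟨k, -, hk⟩ := h4
    refine ⟨k, (hmem k).mpr (sub_eq_zero.mp hk), fun m hm => ?_⟩
    exact (cst hp').injective (((hmem m).mp hm).symm.trans (sub_eq_zero.mp hk))
  · have h1 := congrArg (T.basicOpen (u m)).ι.appTop (hu m)
    rw [map_mul, map_zero] at h1
    have h2 := (isUnit_appTop (u m)).mul_left_eq_zero.mp h1
    rw [map_sub] at h2
    exact sub_eq_zero.mp h2

/-- The Artin-Schreier sequence. -/
theorem main (p : ℕ) [Fact p.Prime] {S : Scheme.{u}}
    (hp : (p : Γ(S, ⊤)) = 0) (F : Red.Ga S ⟶ Red.Ga S)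
    (hF : ∀ (T : Over S) (x : T ⟶ Red.Ga S), Red.gaFn (x ≫ F) = Red.gaFn x ^ p)
    {G' : Over S} [GrpObj G'] (e : G' ≅ TwC.const S (Multiplicative (ZMod p)))
    (he : TwC.IsConstGrp (Multiplicative (ZMod p)) G' e)
    (i : G' ⟶ Red.Ga S) [IsMonHom i]
    (hi : Red.gaFn (TwC.pt S (Multiplicative (ZMod p)) (Multiplicative.ofAdd 1) ≫ e.inv ≫ i) = 1) :
    NonAbH1.IsExactSeq Scheme.fpqcPrecoverage i (𝟙 (Red.Ga S) * F⁻¹) := by
  have hp2 : 2 ≤ p := (Fact.out : p.Prime).two_le
  have hpT : ∀ T : Over S, (p : Γ(T.left, ⊤)) = 0 := fun T => by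
    rw [← map_natCast T.hom.appTop.hom p, hp, map_zero]
  set v : Red.Ga S ⟶ Red.Ga S := 𝟙 (Red.Ga S) * F⁻¹ with hv_def
  have hv : ∀ (T : Over S) (x : T ⟶ Red.Ga S), Red.gaFn (x ≫ v) = Red.gaFn x - Red.gaFn x ^ p := by
    intro T x
    rw [hv_def, MonObj.comp_mul, Category.comp_id, GrpObj.comp_inv, gaFn_mul, gaFn_inv, hF, sub_eq_add_neg]
  have hv1 : Red.gaFn v = Red.gaFn (𝟙 (Red.Ga S)) - Red.gaFn (𝟙 (Red.Ga S)) ^ p := by
    rw [← hv _ (𝟙 _), Category.id_comp]
  have hmv : IsMonHom v := by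
    apply Groth.Agent.Sga3B.Pts.isMonHom_of_points
    intro X x y
    apply gaFn_injective
    rw [hv, gaFn_mul, gaFn_mul, hv, hv, add_pow_p (hpT X)]
    ring
  obtain ⟨hfl, hsu, haf⟩ := left_props v p hv1 hp2
  have hmul : ∀ {T : Over S} (x y : T ⟶ G'), (x * y) ≫ i = (x ≫ i) * (y ≫ i) := fun x y =>
    MonObj.mul_comp x y i
  have hone : ∀ (T : Over S), (1 : T ⟶ G') ≫ i = 1 := fun T => MonObj.one_comp i
  have hinv : ∀ {T : Over S} (x : T ⟶ G'), (x⁻¹) ≫ i = (x ≫ i)⁻¹ := fun x => GrpObj.inv_comp x i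
  have hpt : ∀ (T : Over S) (m : ZMod p), Red.gaFn ((toUnit T ≫ cpt e (Multiplicative.ofAdd m)) ≫ i) = cst (hpT T) m := by
    intro T m
    obtain ⟨n, rfl⟩ := ZMod.natCast_zmod_surjective m
    induction n with
    | zero =>
      rw [Nat.cast_zero, ofAdd_zero, cpt_one he, comp_one, hone, gaFn_one, (cst (hpT T)).map_zero]
    | succ n ih =>
      rw [Nat.cast_succ, (cst (hpT T)).map_add, (cst (hpT T)).map_one, ofAdd_add, cpt_mul he, comp_mul,
        hmul, gaFn_mul, ih]
      congr 1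
      have h1 : (toUnit T ≫ cpt e (Multiplicative.ofAdd (1 : ZMod p))) ≫ i =
        toUnit T ≫ (TwC.pt S (Multiplicative (ZMod p)) (Multiplicative.ofAdd 1) ≫ e.inv ≫ i) := by
        simp [cpt]
      rw [h1, gaFn_comp, hi, map_one]
  have h1 : i ≫ v = 1 := by
    refine hom_ext_const (eG := e) fun z => ?_
    apply gaFn_injective
    have h2 := hpt (𝟙_ (Over S)) z.toAdd
    rw [toUnit_unit, Category.id_comp, ofAdd_toAdd] at h2
    rw [← Category.assoc, hv, h2, cst_pow, sub_self, comp_one, gaFn_one]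
  have hm : Mono i := by
    have key : ∀ (T : Over S) (w : T ⟶ G'), w ≫ i = 1 → w = 1 := by
      intro T w hw
      obtain ⟨V, hV1, hV2⟩ := const_dec (eG := e) w
      have hV3 : ∀ t : T.left, t ∈ V 1 := by
        intro t
        obtain ⟨z, hz, -⟩ := hV1 t
        suffices z = 1 by rwa [this] at hz
        let T' : Over S := Over.mk ((V z).ι ≫ T.hom)
        let j : T' ⟶ T := Over.homMk (V z).ι rfl
        have h2 : j ≫ w = toUnit T' ≫ cpt e z := by
          apply Over.OverMorphism.ext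
          refine (hV2 z).trans ?_
          rw [Over.comp_left, Over.comp_left, ← Category.assoc]
          congr 1
        have h3 : Red.gaFn (j ≫ w ≫ i) = 0 := by rw [hw, comp_one, gaFn_one]
        rw [← Category.assoc, h2] at h3
        have h4 := hpt T' z.toAdd
        rw [ofAdd_toAdd, h3] at h4
        have : Nontrivial Γ(T'.left, ⊤) := by
          have : Nonempty (⊤ : T'.left.Opens) := ⟨⟨⟨t, hz⟩, trivial⟩⟩
          exact T'.left.component_nontrivial ⊤
        have h5 := (map_eq_zero (cst (hpT T'))).mp h4.symm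
        exact Multiplicative.toAdd.injective h5
      apply Over.OverMorphism.ext
      have h6 : (1 : T ⟶ G').left = (toUnit T ≫ cpt e 1).left := by rw [cpt_one he, comp_one]
      rw [h6]
      exact Scheme.hom_ext_of_forall _ _ fun t => ⟨V 1, hV3 t, hV2 1⟩
    constructor
    intro T x y hxy
    have h2 : (x * y⁻¹) ≫ i = 1 := by
      rw [hmul, hinv, hxy, mul_inv_cancel]
    exact mul_inv_eq_one.mp (key T _ h2)
  refine Exact.isExactSeq i v h1 ?_
  intro T x hx
  have ha : Red.gaFn x ^ p = Red.gaFn x := by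
    have h2 := hv T x
    rw [hx, gaFn_one] at h2
    exact (sub_eq_zero.mp h2.symm).symm
  obtain ⟨V, hV1, hV2⟩ := exists_partition (hpT T) (Red.gaFn x) ha
  obtain ⟨g, hg⟩ := glue V hV1 (fun z => (toUnit (Over.mk ((V z).ι ≫ T.hom)) ≫ cpt e (Multiplicative.ofAdd z)).left)
  have hgw : g ≫ G'.hom = T.hom := by
    refine Scheme.hom_ext_of_forall _ _ fun t => ?_
    obtain ⟨z, hz, -⟩ := hV1 t
    refine ⟨V z, hz, ?_⟩
    rw [← Category.assoc, hg z]
    exact Over.w _
  refine ⟨Over.homMk g hgw, ?_⟩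
  apply Over.OverMorphism.ext
  refine Scheme.hom_ext_of_forall _ _ fun t => ?_
  obtain ⟨z, hz, -⟩ := hV1 t
  refine ⟨V z, hz, ?_⟩
  let T' : Over S := Over.mk ((V z).ι ≫ T.hom)
  let j : T' ⟶ T := Over.homMk (V z).ι rfl
  have h3 : j ≫ (Over.homMk g hgw : T ⟶ G') = toUnit T' ≫ cpt e (Multiplicative.ofAdd z) := by
    apply Over.OverMorphism.ext
    exact hg z
  have h4 : j ≫ (Over.homMk g hgw : T ⟶ G') ≫ i = j ≫ x := by
    apply gaFn_injective
    rw [← Category.assoc, h3, hpt, gaFn_comp]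
    refine Eq.trans ?_ (hV2 z).symm
    exact (map_cst (hpT T) (hpT T') (V z).ι.appTop.hom z).symm
  exact congrArg (fun t => t.left) h4

end Main

end K284.ArtinSchreier
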