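import Mathlib.RingTheory.Unramified.Finite
import Mathlib.RingTheory.TensorProduct.IncludeLeftSubRight
import Mathlib.RingTheory.Filtration
import Mathlib.Algebra.CharP.Lemmas

/-!
# Maps from an unramified algebra to a purely-inseparable-mod-`p` algebra

If `D` is a noetherian domain in which the prime `p` is not a unit and `R = D[t]` is finite free over `D` with
`t ^ p ∈ D`, then every `D`-algebra map from an unramified `D`-algebra to `R` has image `D`.
-/

set_option autoImplicit false

open TensorProduct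

namespace K284.PthRoot

theorem add_pow_p {R : Type*} [CommRing R] {p : ℕ} [Fact p.Prime] (hp : (p : R) = 0) (a b : R) :
    (a + b) ^ p = a ^ p + b ^ p := by
  obtain ⟨r, hr⟩ := exists_add_pow_prime_eq (Fact.out : p.Prime) a b
  rw [hr, hp]
  ring

theorem sub_pow_p {R : Type*} [CommRing R] {p : ℕ} [Fact p.Prime] (hp : (p : R) = 0) (a b : R) :
    (a - b) ^ p = a ^ p - b ^ p := by
  have h := add_pow_p hp (a - b) b
  rw [sub_add_cancel] at h
  exact eq_sub_of_add_eq h.symm

theorem sub_pow_mem {R : Type*} [CommRing R] {p : ℕ} [Fact p.Prime] (a b : R) (h : a ^ p = b ^ p) :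
    (a - b) ^ p ∈ Ideal.span {(p : R)} := by
  rw [← Ideal.Quotient.eq_zero_iff_mem, map_pow, map_sub, sub_pow_p, ← map_pow, ← map_pow, h, sub_self]
  rw [← map_natCast (Ideal.Quotient.mk (Ideal.span {(p : R)})), Ideal.Quotient.eq_zero_iff_mem]
  exact Ideal.mem_span_singleton_self _

/-- idempotents in the kernel of multiplication vanish. -/
theorem eq_zero_of_idem {D R : Type*} [CommRing D] [IsDomain D] [IsNoetherianRing D] [CommRing R]
    [Algebra D R] [Module.Free D R] [Module.Finite D R]
    (p : ℕ) [Fact p.Prime] (hp : ¬ IsUnit (p : D)) (t : R) (u : D) (ht : t ^ p = algebraMap D R u)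
    (hadj : Algebra.adjoin D {t} = ⊤) (η : R ⊗[D] R) (hη : η * η = η)
    (hμ : Algebra.TensorProduct.lmul' D (S := R) η = 0) : η = 0 := by
  have hpow : ∀ k : ℕ, 1 ≤ k → η ^ k = η := by
    intro k hk
    exact (show IsIdempotentElem η from hη).pow_eq (by omega)
  have h1 : η ∈ Ideal.span {(1 : R) ⊗ₜ[D] t - t ⊗ₜ[D] (1 : R)} := by
    have h2 : η ∈ KaehlerDifferential.ideal D R := hμ
    rw [← KaehlerDifferential.span_range_eq_ideal] at h2
    refine (Ideal.span_le.mpr ?_ : _ ≤ _) h2
    rintro _ ⟨s, rfl⟩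
    have hs : s ∈ Algebra.adjoin D {t} := by rw [hadj]; trivial
    induction hs using Algebra.adjoin_induction with
    | mem x hx =>
      rw [Set.mem_singleton_iff.mp hx]
      exact Ideal.mem_span_singleton_self _
    | algebraMap r =>
      have : (1 : R) ⊗ₜ[D] algebraMap D R r - algebraMap D R r ⊗ₜ[D] (1 : R) = 0 := by
        rw [Algebra.algebraMap_eq_smul_one, tmul_smul, smul_tmul', sub_self]
      simp only [this]
      exact Ideal.zero_mem _
    | add x y _ _ hx hy =>
      simp only [SetLike.mem_coe] at *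
      have h3 := Ideal.add_mem _ hx hy
      rwa [sub_add_sub_comm, ← tmul_add, ← add_tmul] at h3
    | mul x y _ _ hx hy =>
      simp only [SetLike.mem_coe] at *
      have h3 := Ideal.add_mem _ (Ideal.mul_mem_left _ ((1 : R) ⊗ₜ[D] y) hx)
        (Ideal.mul_mem_left _ (x ⊗ₜ[D] (1 : R)) hy)
      convert h3 using 1
      simp only [mul_sub, Algebra.TensorProduct.tmul_mul_tmul, mul_one, one_mul]
      rw [mul_comm y x]
      abel
  obtain ⟨x, hx⟩ := Ideal.mem_span_singleton.mp h1
  have h4 : ((1 : R) ⊗ₜ[D] t - t ⊗ₜ[D] (1 : R)) ^ p ∈ Ideal.span {(p : R ⊗[D] R)} := by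
    apply sub_pow_mem
    rw [Algebra.TensorProduct.tmul_pow, Algebra.TensorProduct.tmul_pow, ht, one_pow,
      Algebra.algebraMap_eq_smul_one, tmul_smul, smul_tmul']
  have h5 : η ∈ Ideal.span {(p : R ⊗[D] R)} := by
    rw [← hpow p (Fact.out : p.Prime).one_le, hx, mul_pow]
    exact Ideal.mul_mem_right _ _ h4
  obtain ⟨y, hy⟩ := Ideal.mem_span_singleton.mp h5
  have h6 : η ∈ (⨅ i : ℕ, (Ideal.span {(p : D)}) ^ i • ⊤ : Submodule D (R ⊗[D] R)) := by
    rw [Submodule.mem_iInf]
    intro i
    rcases Nat.eq_zero_or_pos i with rfl | hi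
    · rw [pow_zero, Ideal.one_eq_top, Submodule.top_smul]
      trivial
    · rw [← hpow i hi, hy, mul_pow, ← Nat.cast_pow]
      have h7 : ((p ^ i : ℕ) : R ⊗[D] R) * y ^ i = ((p ^ i : ℕ) : D) • y ^ i := by
        rw [Algebra.smul_def, map_natCast]
      rw [h7]
      refine Submodule.smul_mem_smul ?_ trivial
      rw [Ideal.span_singleton_pow, Nat.cast_pow]
      exact Ideal.mem_span_singleton_self _
  rw [Ideal.iInf_pow_smul_eq_bot_of_isTorsionFree _ (by rwa [Ne, Ideal.span_singleton_eq_top])] at h6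
  exact h6

/-- Maps from an unramified algebra into `D[t]`, `t ^ p ∈ D`, have image in `D` unless `p` is a unit. -/
theorem mem_range_of_unramified {D R B : Type*} [CommRing D] [IsDomain D] [IsNoetherianRing D]
    [CommRing R] [Algebra D R] [Module.Free D R] [Module.Finite D R] [Nontrivial R]
    [CommRing B] [Algebra D B] [Algebra.FormallyUnramified D B] [Algebra.EssFiniteType D B]
    (p : ℕ) [Fact p.Prime] (hp : ¬ IsUnit (p : D)) (t : R) (u : D) (ht : t ^ p = algebraMap D R u)
    (hadj : Algebra.adjoin D {t} = ⊤) (φ : B →ₐ[D] R) (b : B) :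
    φ b ∈ Set.range (algebraMap D R) := by
  let e := Algebra.FormallyUnramified.elem D B
  let ε : R ⊗[D] R := Algebra.TensorProduct.map φ φ e
  have he1 : ∀ s : B, (1 ⊗ₜ s) * e = (s ⊗ₜ 1) * e := Algebra.FormallyUnramified.one_tmul_mul_elem
  have he2 : Algebra.TensorProduct.lmul' D (S := B) e = 1 := Algebra.FormallyUnramified.lmul_elem
  have he3 : ∀ z : B ⊗[D] B, z * e = ((Algebra.TensorProduct.lmul' D (S := B) z) ⊗ₜ 1) * e := by
    intro z
    induction z with
    | zero => simp
    | tmul x y =>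
      rw [Algebra.TensorProduct.lmul'_apply_tmul]
      have h1 : x ⊗ₜ[D] y = (x ⊗ₜ[D] 1) * (1 ⊗ₜ[D] y) := by simp
      rw [h1, mul_assoc, he1, ← mul_assoc, Algebra.TensorProduct.tmul_mul_tmul, mul_one]
    | add x y hx hy => rw [add_mul, hx, hy, map_add, add_tmul, add_mul]
  have he4 : e * e = e := by
    rw [he3 e, he2]
    exact one_mul e
  have hε1 : ε * ε = ε := by
    change Algebra.TensorProduct.map φ φ e * Algebra.TensorProduct.map φ φ e = _
    rw [← map_mul, he4]
  have hε2 : Algebra.TensorProduct.lmul' D (S := R) ε = 1 := by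
    have h1 : (Algebra.TensorProduct.lmul' D (S := R)).comp (Algebra.TensorProduct.map φ φ) =
        φ.comp (Algebra.TensorProduct.lmul' D (S := B)) := by
      ext <;> simp
    have h2 := DFunLike.congr_fun h1 e
    rw [AlgHom.comp_apply, AlgHom.comp_apply, he2, map_one] at h2
    exact h2
  have h3 : 1 - ε = 0 := by
    refine eq_zero_of_idem p hp t u ht hadj (1 - ε) ?_ ?_
    · linear_combination hε1
    · rw [map_sub, hε2, map_one, sub_self]
  have h4 : ε = 1 := (sub_eq_zero.mp h3).symm
  have h5 : (1 : R) ⊗ₜ[D] φ b = φ b ⊗ₜ[D] (1 : R) := by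
    have h6 := congrArg (Algebra.TensorProduct.map φ φ) (he1 b)
    rw [map_mul, map_mul, Algebra.TensorProduct.map_tmul, Algebra.TensorProduct.map_tmul, map_one] at h6
    change _ * ε = _ * ε at h6
    rwa [h4, mul_one, mul_one] at h6
  rw [← Algebra.IsEffective.eqLocus_includeLeft_includeRight (.of_faithfullyFlat D R)]
  exact h5.symm

end K284.PthRoot
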